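import Groth.Agent.AlgGrp.K414.OrbitRed
import Groth.Agent.AGF.K492.Act
import Mathlib.AlgebraicGeometry.Morphisms.SchemeTheoreticallyDominant

/-!
# The reduced orbit of a rational point under a reduced group scheme

`G` a reduced `k`-group scheme of finite type acting on `X` of finite type, `x` a rational point and
`i : O ⟶ X` an immersion from a reduced scheme with image the orbit: `G` acts on `O` and the orbit
map `G ⟶ O` is flat and surjective.  (Unlike the smooth case, `G × O` need not be reduced: the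
action restricts because `G × G ⟶ G × O` is scheme-theoretically dominant.)
-/

set_option autoImplicit false
universe u
open CategoryTheory Limits MonoidalCategory CartesianMonoidalCategory MonObj GrpObj AlgebraicGeometry
open Groth.Agent

namespace K206.OrbRed

/-- A morphism factors through an immersion when it does so after a surjective, quasi-compact,
scheme-theoretically dominant morphism. -/
theorem exists_factor_of_dominant {A B O X : Scheme.{u}} (e : A ⟶ B) [Surjective e] [QuasiCompact e]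
    [IsSchemeTheoreticallyDominant e] (i : O ⟶ X) [IsImmersion i] (m : B ⟶ X) (c : A ⟶ O)
    (h : c ≫ i = e ≫ m) : ∃ β : B ⟶ O, β ≫ i = m := by
  let j : pullback m i ⟶ B := pullback.fst m i
  let e' : A ⟶ pullback m i := pullback.lift e c h.symm
  have he' : e' ≫ j = e := pullback.lift_fst _ _ _
  have hj : Set.range j = Set.univ := by
    rw [Set.eq_univ_iff_forall]
    intro b
    obtain ⟨a, rfl⟩ := e.surjective b
    exact ⟨e' a, by rw [← he']; rfl⟩
  have hcl : IsClosedImmersion j := .of_isPreimmersion j (by rw [hj]; exact isClosed_univ)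
  have hker : j.ker = ⊥ := by
    have h1 : j.ker ≤ (e' ≫ j).ker := e'.le_ker_comp j
    rw [he', e.ker_eq_bot] at h1
    exact le_bot_iff.1 h1
  have hiso : IsIso j := IsClosedImmersion.isIso_iff_ker_eq_bot.2 hker
  exact ⟨inv j ≫ pullback.snd m i, by
    rw [Category.assoc, ← pullback.condition, IsIso.inv_hom_id_assoc]⟩

theorem isPullback_of_comp_mono {C : Type*} [Category* C] {A B D E F : C} {i : A ⟶ B} {t : A ⟶ D}
    {p : B ⟶ E} {q : D ⟶ E} (f : E ⟶ F) [Mono f] (h : IsPullback i t (p ≫ f) (q ≫ f)) :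
    IsPullback i t p q := by
  have hw : i ≫ p = t ≫ q := by
    rw [← cancel_mono f, Category.assoc, Category.assoc]
    exact h.w
  refine ⟨⟨hw⟩, ⟨PullbackCone.IsLimit.mk _
    (fun c => h.lift c.fst c.snd (by rw [← Category.assoc, c.condition, Category.assoc])) ?_ ?_ ?_⟩⟩
  · intro c
    exact h.lift_fst _ _ _
  · intro c
    exact h.lift_snd _ _ _
  · intro c m h1 h2
    apply h.hom_ext
    · rw [h1, h.lift_fst]
    · rw [h2, h.lift_snd]

variable {k : Type u} [Field k] {G X : Over (Spec (CommRingCat.of k))} [GrpObj G]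
  (a : AlgGrp.Action G X) (x : 𝟙_ (Over (Spec (CommRingCat.of k))) ⟶ X)

/-- The action on the reduced orbit. -/
theorem exists_action [IsReduced G.left] [LocallyOfFiniteType G.hom] [QuasiCompact G.hom]
    [LocallyOfFiniteType X.hom]
    (O : Scheme.{u}) (i : O ⟶ X.left) [IsImmersion i] [IsReduced O]
    (hO : Set.range i = Set.range (a.orbitMap x).left) :
    ∃ (b : AlgGrp.Action G (Over.mk (i ≫ X.hom)))
      (o : 𝟙_ (Over (Spec (CommRingCat.of k))) ⟶ Over.mk (i ≫ X.hom)),
      b.act ≫ (Over.homMk i rfl : Over.mk (i ≫ X.hom) ⟶ X) =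
        (G ◁ (Over.homMk i rfl : Over.mk (i ≫ X.hom) ⟶ X)) ≫ a.act ∧
      o ≫ (Over.homMk i rfl : Over.mk (i ≫ X.hom) ⟶ X) = x ∧
      b.orbitMap o ≫ (Over.homMk i rfl : Over.mk (i ≫ X.hom) ⟶ X) = a.orbitMap x ∧
      Flat (b.orbitMap o).left ∧ Surjective (b.orbitMap o).left ∧
      LocallyOfFinitePresentation (b.orbitMap o).left := by
  set iO : Over.mk (i ≫ X.hom) ⟶ X := Over.homMk i rfl with hiO
  obtain ⟨ψ, hψ⟩ := Ega1.ReducedSub.exists_factor_of_range_subset (a.orbitMap x).left i hO.ge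
  let ψ' : G ⟶ Over.mk (i ≫ X.hom) := Over.homMk ψ (by
    dsimp; rw [← Category.assoc, hψ, Over.w])
  have hψ' : ψ' ≫ iO = a.orbitMap x := by
    ext1; exact hψ
  have hmono : Mono iO := by
    have : Mono iO.left := inferInstanceAs (Mono i)
    exact Over.mono_of_mono_left iO
  have hsurj : Surjective ψ := by
    refine ⟨fun z => ?_⟩
    have hz : i z ∈ Set.range (a.orbitMap x).left := by rw [← hO]; exact ⟨z, rfl⟩
    obtain ⟨g, hg⟩ := hz
    refine ⟨g, i.isEmbedding.injective ?_⟩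
    rw [← hg, ← hψ]; rfl
  have hOft : LocallyOfFiniteType (i ≫ X.hom) := inferInstance
  have hOnoeth : IsLocallyNoetherian O := LocallyOfFiniteType.isLocallyNoetherian (i ≫ X.hom)
  have hGcpt : CompactSpace G.left := QuasiCompact.compactSpace_of_compactSpace G.hom
  have hGnoeth : IsLocallyNoetherian G.left := LocallyOfFiniteType.isLocallyNoetherian G.hom
  have hqc : QuasiCompact ψ := by
    have : IsNoetherian G.left := {}
    infer_instance
  have hdom : IsSchemeTheoreticallyDominant ψ := IsSchemeTheoreticallyDominant.of_isDominant ψ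
  have hsurj' : Surjective (G ◁ ψ').left :=
    Books.AntiAffine.whiskerLeft_left_mem @Surjective ψ' G hsurj
  have hqc' : QuasiCompact (G ◁ ψ').left :=
    Books.AntiAffine.whiskerLeft_left_mem @QuasiCompact ψ' G hqc
  have hdom' : IsSchemeTheoreticallyDominant (G ◁ ψ').left := by
    have h3 : IsPullback (G ◁ ψ') (snd G G) (snd G (Over.mk (i ≫ X.hom))) ψ' := by
      refine ⟨⟨whiskerLeft_snd _ _⟩, ⟨Limits.PullbackCone.IsLimit.mk _
        (fun c => lift (c.fst ≫ fst G (Over.mk (i ≫ X.hom))) c.snd) ?_ ?_ ?_⟩⟩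
      · intro c
        apply CartesianMonoidalCategory.hom_ext
        · simp
        · simpa using c.condition.symm
      · intro c
        exact lift_snd _ _
      · intro c m h4 h5
        apply CartesianMonoidalCategory.hom_ext
        · rw [lift_fst, ← h4, Category.assoc, whiskerLeft_fst]
        · rw [lift_snd, h5]
    have h4 : IsPullback (G ◁ ψ').left (snd G G).left (snd G (Over.mk (i ≫ X.hom))).left ψ'.left :=
      h3.map (Over.forget _)
    have h5 : Flat (snd G (Over.mk (i ≫ X.hom))).left :=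
      inferInstanceAs (Flat (pullback.snd G.hom (i ≫ X.hom)))
    have h6 : IsSchemeTheoreticallyDominant ψ'.left := hdom
    have h7 : QuasiCompact ψ'.left := hqc
    exact IsSchemeTheoreticallyDominant.of_isPullback h4.flip
  have hfac : (μ[G] ≫ ψ').left ≫ i = (G ◁ ψ').left ≫ ((G ◁ iO) ≫ a.act).left := by
    have h1 : (G ◁ ψ') ≫ (G ◁ iO) ≫ a.act = μ[G] ≫ a.orbitMap x := by
      rw [K414.OrbitRed.mu_orbitMap, ← hψ']; simp
    have h2 : (μ[G] ≫ ψ') ≫ iO = (G ◁ ψ') ≫ (G ◁ iO) ≫ a.act := by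
      rw [h1, Category.assoc, hψ']
    exact congrArg CommaMorphism.left h2
  obtain ⟨β, hβ⟩ := exists_factor_of_dominant (G ◁ ψ').left i ((G ◁ iO) ≫ a.act).left
    (μ[G] ≫ ψ').left hfac
  let β' : G ⊗ Over.mk (i ≫ X.hom) ⟶ Over.mk (i ≫ X.hom) := Over.homMk β (by
    have := Over.w ((G ◁ iO) ≫ a.act)
    rw [← hβ, Category.assoc] at this
    exact this)
  have hβ' : β' ≫ iO = (G ◁ iO) ≫ a.act := by
    ext1; exact hβ
  have key : ∀ {T : Over (Spec (CommRingCat.of k))} (g : T ⟶ G) (y : T ⟶ Over.mk (i ≫ X.hom)),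
      (lift g y ≫ β') ≫ iO = lift g (y ≫ iO) ≫ a.act := by
    intro T g y
    rw [Category.assoc, hβ', ← Category.assoc]
    congr 1
    ext1 <;> simp
  let b : AlgGrp.Action G (Over.mk (i ≫ X.hom)) := K414.OrbitRed.mkAction β'
    (fun y => by rw [← cancel_mono iO, key, K414.OrbitRed.lift_one_act])
    (fun g h y => by rw [← cancel_mono iO, key, key, key, K414.OrbitRed.lift_mul_act])
  let o : 𝟙_ (Over (Spec (CommRingCat.of k))) ⟶ Over.mk (i ≫ X.hom) := η[G] ≫ ψ'
  have ho : o ≫ iO = x := by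
    rw [Category.assoc, hψ', K414.OrbitRed.one_orbitMap]
  have hbo : b.orbitMap o = ψ' := by
    rw [← cancel_mono iO, hψ', AlgGrp.Action.orbitMap]
    change (lift (𝟙 G) (toUnit G ≫ o) ≫ β') ≫ iO = _
    rw [key, Category.assoc, ho]
    rfl
  have hlft : LocallyOfFiniteType ψ := by
    have h1 : LocallyOfFiniteType (ψ ≫ (i ≫ X.hom)) := by
      rw [← Category.assoc, hψ, Over.w]; infer_instance
    exact locallyOfFiniteType_of_comp ψ (i ≫ X.hom)
  have hlfp : LocallyOfFinitePresentation ψ := inferInstance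
  have hOne : Nonempty O := ⟨ψ (η[G].left (IsLocalRing.closedPoint k))⟩
  obtain ⟨U, hU1, hU2, -⟩ := Groth.Agent.S0414.result ψ
  obtain ⟨u, hu⟩ := hU1.nonempty
  obtain ⟨g, rfl⟩ := ψ.surjective u
  have hflat : Flat ψ := by
    have h1 : Flat ((ψ ⁻¹ᵁ U).ι ≫ ψ) := by
      have : (ψ ∣_ U) ≫ U.ι = (ψ ⁻¹ᵁ U).ι ≫ ψ := morphismRestrict_ι _ _
      rw [← this]
      infer_instance
    have h2 : Sga3C.FlatPt.IsFlatAt ψ g :=
      Sga3C.FlatPt.IsFlatAt.of_comp (q := (ψ ⁻¹ᵁ U).ι) (f := ψ) (t := ⟨g, hu⟩)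
        (Sga3C.FlatPt.isFlatAt_of_flat _ _) (Sga3C.FlatPt.isFlatAt_of_flat _ _)
    have h3 := Groth.Agent.S5347.result k G (Over.mk (i ≫ X.hom)) b o
      ⟨g, by
        rw [hbo]
        exact (Sga3C.FlatPt.isFlatAt_iff_stalkMap ψ g).mp h2⟩
    rw [hbo] at h3
    exact h3
  refine ⟨b, o, hβ', ho, ?_, ?_, ?_, ?_⟩
  · rw [hbo, hψ']
  · rw [hbo]; exact hflat
  · rw [hbo]; exact hsurj
  · rw [hbo]; exact hlfp

/-- The reduced orbit is the quotient by the isotropy group. -/
theorem exists_isQuotient [IsReduced G.left] [LocallyOfFiniteType G.hom] [QuasiCompact G.hom]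
    [LocallyOfFiniteType X.hom] {Go : Over (Spec (CommRingCat.of k))} [GrpObj Go] (i : Go ⟶ G)
    [IsMonHom i] (hGo : IsPullback i (toUnit Go) (a.orbitMap x) x)
    (Z : Over (Spec (CommRingCat.of k))) (z : Z ⟶ X) [hzi : IsImmersion z.left] [hZr : IsReduced Z.left]
    (hz : Set.range z.left = Set.range (a.orbitMap x).left) :
    ∃ (b : AlgGrp.Action G Z) (y : 𝟙_ (Over (Spec (CommRingCat.of k))) ⟶ Z),
      AGF.IsQuotient i Z b y ∧ (G ◁ z) ≫ a.act = b.act ≫ z ∧ y ≫ z = x ∧
      b.orbitMap y ≫ z = a.orbitMap x := by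
  obtain ⟨Zl, ⟨⟨⟩⟩, Zh⟩ := Z
  obtain ⟨i₀, ⟨⟨⟩⟩, hi₀⟩ := z
  change Zl ⟶ X.left at i₀
  have hw : i₀ ≫ X.hom = Zh := by simpa using hi₀
  subst hw
  have : IsImmersion i₀ := hzi
  have : IsReduced Zl := hZr
  obtain ⟨b, y, h1, h2, h3, h4, h5, h6⟩ := exists_action a x Zl i₀ hz
  have hmono : Mono (Over.homMk i₀ rfl : Over.mk (i₀ ≫ X.hom) ⟶ X) := by
    have : Mono (Over.homMk i₀ rfl : Over.mk (i₀ ≫ X.hom) ⟶ X).left := inferInstanceAs (Mono i₀)
    exact Over.mono_of_mono_left _
  have hst : IsPullback i (toUnit Go) (b.orbitMap y) y := by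
    apply isPullback_of_comp_mono (Over.homMk i₀ rfl : Over.mk (i₀ ≫ X.hom) ⟶ X)
    rw [h3, h2]
    exact hGo
  exact ⟨b, y, ⟨inferInstanceAs (LocallyOfFiniteType (i₀ ≫ X.hom)), h4, h5,
    K492.Act.isPullback_of_stab hst⟩, h1.symm, h2, h3⟩

end K206.OrbRed
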